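import Mathlib

/-! Tables for the double cover by matrices of degree eight over three elements. -/

set_option autoImplicit false
set_option maxRecDepth 100000

namespace Cfsg.Agent.Lib.SchurMult.SpSix

/-- A matrix of the table. -/
def gm0 : List (List ℕ) := [[0,0,0,0,0,0,0,0],[0,0,0,0,0,0,0,0],[0,0,0,0,0,0,0,0],[0,0,0,0,0,0,0,0],[0,0,0,0,0,0,0,0],[0,0,0,0,0,0,0,0],[0,0,0,0,0,0,0,0],[0,0,0,0,0,0,0,0]]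

/-- A matrix of the table. -/
def gm1 : List (List ℕ) := [[0,2,0,0,0,0,0,0],[1,0,0,0,0,0,0,0],[0,0,0,1,0,0,0,0],[0,0,2,0,0,0,0,0],[0,0,0,0,0,1,0,0],[0,0,0,0,2,0,0,0],[0,0,0,0,0,0,0,2],[0,0,0,0,0,0,1,0]]

/-- A matrix of the table. -/
def gm2 : List (List ℕ) := [[0,0,2,0,0,0,0,0],[0,0,0,2,0,0,0,0],[1,0,0,0,0,0,0,0],[0,1,0,0,0,0,0,0],[0,0,0,0,0,0,1,0],[0,0,0,0,0,0,0,1],[0,0,0,0,2,0,0,0],[0,0,0,0,0,2,0,0]]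

/-- A matrix of the table. -/
def gm3 : List (List ℕ) := [[0,0,0,2,0,0,0,0],[0,0,1,0,0,0,0,0],[0,2,0,0,0,0,0,0],[1,0,0,0,0,0,0,0],[0,0,0,0,0,0,0,1],[0,0,0,0,0,0,2,0],[0,0,0,0,0,1,0,0],[0,0,0,0,2,0,0,0]]

/-- A matrix of the table. -/
def gm4 : List (List ℕ) := [[0,0,0,0,0,0,2,0],[0,0,0,0,0,0,0,1],[0,0,0,0,1,0,0,0],[0,0,0,0,0,2,0,0],[0,0,2,0,0,0,0,0],[0,0,0,1,0,0,0,0],[1,0,0,0,0,0,0,0],[0,2,0,0,0,0,0,0]]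

/-- A matrix of the table. -/
def gm5 : List (List ℕ) := [[0,0,0,0,0,0,0,2],[0,0,0,0,0,0,2,0],[0,0,0,0,0,1,0,0],[0,0,0,0,1,0,0,0],[0,0,0,2,0,0,0,0],[0,0,2,0,0,0,0,0],[0,1,0,0,0,0,0,0],[1,0,0,0,0,0,0,0]]

/-- A matrix of the table. -/
def gm6 : List (List ℕ) := [[0,0,0,0,2,0,0,0],[0,0,0,0,0,2,0,0],[0,0,0,0,0,0,2,0],[0,0,0,0,0,0,0,2],[1,0,0,0,0,0,0,0],[0,1,0,0,0,0,0,0],[0,0,1,0,0,0,0,0],[0,0,0,1,0,0,0,0]]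

/-- A matrix of the table. -/
def gm7 : List (List ℕ) := [[0,0,0,0,0,2,0,0],[0,0,0,0,1,0,0,0],[0,0,0,0,0,0,0,2],[0,0,0,0,0,0,1,0],[0,2,0,0,0,0,0,0],[1,0,0,0,0,0,0,0],[0,0,0,2,0,0,0,0],[0,0,1,0,0,0,0,0]]

/-- A matrix of the table. -/
def gm8 : List (List ℕ) := [[0,1,0,1,0,1,0,1],[2,0,2,0,2,0,1,0],[0,1,0,2,0,2,0,1],[2,0,1,0,2,0,2,0],[0,1,0,1,0,2,0,2],[2,0,1,0,1,0,1,0],[0,2,0,1,0,2,0,1],[2,0,2,0,1,0,2,0]]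

/-- A matrix of the table. -/
def gm9 : List (List ℕ) := [[0,1,0,2,0,2,0,2],[2,0,1,0,1,0,2,0],[0,2,0,2,0,1,0,2],[1,0,1,0,1,0,1,0],[0,2,0,2,0,2,0,1],[1,0,2,0,1,0,2,0],[0,1,0,2,0,1,0,1],[1,0,1,0,2,0,2,0]]

/-- A matrix of the table. -/
def gm10 : List (List ℕ) := [[0,1,0,1,0,2,0,2],[2,0,2,0,1,0,2,0],[0,1,0,2,0,1,0,2],[2,0,1,0,1,0,1,0],[0,2,0,2,0,2,0,2],[1,0,2,0,1,0,1,0],[0,1,0,2,0,2,0,1],[1,0,1,0,1,0,2,0]]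

/-- A matrix of the table. -/
def gm11 : List (List ℕ) := [[0,1,0,2,0,1,0,1],[2,0,1,0,2,0,1,0],[0,2,0,2,0,2,0,1],[1,0,1,0,2,0,2,0],[0,1,0,1,0,2,0,1],[2,0,1,0,1,0,2,0],[0,2,0,1,0,1,0,1],[2,0,2,0,2,0,2,0]]

/-- A matrix of the table. -/
def gm12 : List (List ℕ) := [[0,1,0,2,0,2,0,1],[2,0,1,0,1,0,1,0],[0,2,0,2,0,2,0,2],[1,0,1,0,2,0,1,0],[0,2,0,1,0,2,0,1],[1,0,1,0,1,0,2,0],[0,2,0,2,0,1,0,1],[2,0,1,0,2,0,2,0]]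

/-- A matrix of the table. -/
def gm13 : List (List ℕ) := [[0,1,0,1,0,1,0,2],[2,0,2,0,2,0,2,0],[0,1,0,2,0,1,0,1],[2,0,1,0,1,0,2,0],[0,1,0,2,0,2,0,2],[2,0,2,0,1,0,1,0],[0,1,0,1,0,2,0,1],[1,0,2,0,1,0,2,0]]

/-- A matrix of the table. -/
def gm14 : List (List ℕ) := [[0,1,0,2,0,1,0,2],[2,0,1,0,2,0,2,0],[0,2,0,2,0,1,0,1],[1,0,1,0,1,0,2,0],[0,1,0,2,0,2,0,1],[2,0,2,0,1,0,2,0],[0,1,0,1,0,1,0,1],[1,0,2,0,2,0,2,0]]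

/-- A matrix of the table. -/
def gm15 : List (List ℕ) := [[0,1,0,1,0,2,0,1],[2,0,2,0,1,0,1,0],[0,1,0,2,0,2,0,2],[2,0,1,0,2,0,1,0],[0,2,0,1,0,2,0,2],[1,0,1,0,1,0,1,0],[0,2,0,2,0,2,0,1],[2,0,1,0,1,0,2,0]]

/-- A matrix of the table. -/
def gm16 : List (List ℕ) := [[0,0,1,1,1,2,0,0],[0,0,2,1,1,1,0,0],[2,1,0,0,0,0,1,2],[2,2,0,0,0,0,1,1],[2,2,0,0,0,0,2,2],[1,2,0,0,0,0,1,2],[0,0,2,2,1,2,0,0],[0,0,1,2,1,1,0,0]]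

/-- A matrix of the table. -/
def gm17 : List (List ℕ) := [[0,0,1,1,2,1,0,0],[0,0,2,1,2,2,0,0],[2,1,0,0,0,0,2,1],[2,2,0,0,0,0,2,2],[1,1,0,0,0,0,2,2],[2,1,0,0,0,0,1,2],[0,0,1,1,1,2,0,0],[0,0,2,1,1,1,0,0]]

/-- A matrix of the table. -/
def gm18 : List (List ℕ) := [[0,0,1,2,2,1,0,0],[0,0,1,1,2,2,0,0],[2,2,0,0,0,0,2,1],[1,2,0,0,0,0,2,2],[1,1,0,0,0,0,2,1],[2,1,0,0,0,0,2,2],[0,0,1,1,1,1,0,0],[0,0,2,1,2,1,0,0]]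

/-- A matrix of the table. -/
def gm19 : List (List ℕ) := [[0,0,1,2,1,2,0,0],[0,0,1,1,1,1,0,0],[2,2,0,0,0,0,1,2],[1,2,0,0,0,0,1,1],[2,2,0,0,0,0,2,1],[1,2,0,0,0,0,2,2],[0,0,2,2,1,1,0,0],[0,0,1,2,2,1,0,0]]

/-- A matrix of the table. -/
def gm20 : List (List ℕ) := [[0,0,1,2,1,1,0,0],[0,0,1,1,2,1,0,0],[2,2,0,0,0,0,1,1],[1,2,0,0,0,0,2,1],[2,1,0,0,0,0,2,1],[2,2,0,0,0,0,2,2],[0,0,2,1,1,1,0,0],[0,0,2,2,2,1,0,0]]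

/-- A matrix of the table. -/
def gm21 : List (List ℕ) := [[0,0,1,2,2,2,0,0],[0,0,1,1,1,2,0,0],[2,2,0,0,0,0,2,2],[1,2,0,0,0,0,1,2],[1,2,0,0,0,0,2,1],[1,1,0,0,0,0,2,2],[0,0,1,2,1,1,0,0],[0,0,1,1,2,1,0,0]]

/-- A matrix of the table. -/
def gm22 : List (List ℕ) := [[0,0,1,1,2,2,0,0],[0,0,2,1,1,2,0,0],[2,1,0,0,0,0,2,2],[2,2,0,0,0,0,1,2],[1,2,0,0,0,0,2,2],[1,1,0,0,0,0,1,2],[0,0,1,2,1,2,0,0],[0,0,1,1,1,1,0,0]]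

/-- A matrix of the table. -/
def gm23 : List (List ℕ) := [[0,0,1,1,1,1,0,0],[0,0,2,1,2,1,0,0],[2,1,0,0,0,0,1,1],[2,2,0,0,0,0,2,1],[2,1,0,0,0,0,2,2],[2,2,0,0,0,0,1,2],[0,0,2,1,1,2,0,0],[0,0,2,2,1,1,0,0]]

/-- A matrix of the table. -/
def gm24 : List (List ℕ) := [[0,1,1,0,2,0,0,2],[2,0,0,1,0,2,2,0],[2,0,0,2,0,1,2,0],[0,2,1,0,1,0,0,2],[1,0,0,2,0,2,2,0],[0,1,2,0,1,0,0,2],[0,1,1,0,1,0,0,1],[1,0,0,1,0,1,2,0]]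

/-- A matrix of the table. -/
def gm25 : List (List ℕ) := [[0,1,2,0,1,0,0,1],[2,0,0,2,0,1,1,0],[1,0,0,2,0,2,1,0],[0,1,1,0,2,0,0,1],[2,0,0,1,0,2,1,0],[0,2,1,0,1,0,0,1],[0,2,2,0,2,0,0,1],[2,0,0,2,0,2,2,0]]

/-- A matrix of the table. -/
def gm26 : List (List ℕ) := [[0,1,2,0,2,0,0,2],[2,0,0,2,0,2,2,0],[1,0,0,2,0,1,2,0],[0,1,1,0,1,0,0,2],[1,0,0,2,0,2,1,0],[0,1,2,0,1,0,0,1],[0,1,1,0,2,0,0,1],[1,0,0,1,0,2,2,0]]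

/-- A matrix of the table. -/
def gm27 : List (List ℕ) := [[0,1,1,0,1,0,0,1],[2,0,0,1,0,1,1,0],[2,0,0,2,0,2,1,0],[0,2,1,0,2,0,0,1],[2,0,0,1,0,2,2,0],[0,2,1,0,1,0,0,2],[0,2,2,0,1,0,0,1],[2,0,0,2,0,1,2,0]]

/-- A matrix of the table. -/
def gm28 : List (List ℕ) := [[0,1,2,0,1,0,0,2],[2,0,0,2,0,1,2,0],[1,0,0,2,0,1,1,0],[0,1,1,0,1,0,0,1],[2,0,0,2,0,2,1,0],[0,2,2,0,1,0,0,1],[0,1,2,0,2,0,0,1],[1,0,0,2,0,2,2,0]]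

/-- A matrix of the table. -/
def gm29 : List (List ℕ) := [[0,1,1,0,2,0,0,1],[2,0,0,1,0,2,1,0],[2,0,0,2,0,2,2,0],[0,2,1,0,2,0,0,2],[1,0,0,1,0,2,2,0],[0,1,1,0,1,0,0,2],[0,2,1,0,1,0,0,1],[2,0,0,1,0,1,2,0]]

/-- A matrix of the table. -/
def gm30 : List (List ℕ) := [[0,1,1,0,1,0,0,2],[2,0,0,1,0,1,2,0],[2,0,0,2,0,1,1,0],[0,2,1,0,1,0,0,1],[2,0,0,2,0,2,2,0],[0,2,2,0,1,0,0,2],[0,1,2,0,1,0,0,1],[1,0,0,2,0,1,2,0]]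

/-- A matrix of the table. -/
def gm31 : List (List ℕ) := [[0,1,2,0,2,0,0,1],[2,0,0,2,0,2,1,0],[1,0,0,2,0,2,2,0],[0,1,1,0,2,0,0,2],[1,0,0,1,0,2,1,0],[0,1,1,0,1,0,0,1],[0,2,1,0,2,0,0,1],[2,0,0,1,0,2,2,0]]

/-- A matrix of the table. -/
def gm32 : List (List ℕ) := [[0,0,0,0,1,1,1,2],[0,0,0,0,2,1,2,2],[0,0,0,0,2,1,1,1],[0,0,0,0,1,1,2,1],[2,1,1,2,0,0,0,0],[2,2,2,2,0,0,0,0],[2,1,2,1,0,0,0,0],[1,1,2,2,0,0,0,0]]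

/-- A matrix of the table. -/
def gm33 : List (List ℕ) := [[0,0,0,0,1,1,2,1],[0,0,0,0,2,1,1,1],[0,0,0,0,1,2,1,1],[0,0,0,0,2,2,2,1],[2,1,2,1,0,0,0,0],[2,2,1,1,0,0,0,0],[1,2,2,1,0,0,0,0],[2,2,2,2,0,0,0,0]]

/-- A matrix of the table. -/
def gm34 : List (List ℕ) := [[0,0,0,0,1,2,1,1],[0,0,0,0,1,1,1,2],[0,0,0,0,2,2,1,2],[0,0,0,0,2,1,1,1],[2,2,1,1,0,0,0,0],[1,2,1,2,0,0,0,0],[2,2,2,2,0,0,0,0],[2,1,1,2,0,0,0,0]]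

/-- A matrix of the table. -/
def gm35 : List (List ℕ) := [[0,0,0,0,1,2,2,2],[0,0,0,0,1,1,2,1],[0,0,0,0,1,1,1,2],[0,0,0,0,1,2,1,1],[2,2,2,2,0,0,0,0],[1,2,2,1,0,0,0,0],[1,1,2,2,0,0,0,0],[1,2,1,2,0,0,0,0]]

/-- A matrix of the table. -/
def gm36 : List (List ℕ) := [[0,0,0,0,1,1,2,2],[0,0,0,0,2,1,2,1],[0,0,0,0,1,1,1,1],[0,0,0,0,1,2,2,1],[2,1,2,2,0,0,0,0],[2,2,2,1,0,0,0,0],[1,1,2,1,0,0,0,0],[1,2,2,2,0,0,0,0]]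

/-- A matrix of the table. -/
def gm37 : List (List ℕ) := [[0,0,0,0,1,1,1,1],[0,0,0,0,2,1,1,2],[0,0,0,0,2,2,1,1],[0,0,0,0,2,1,2,1],[2,1,1,1,0,0,0,0],[2,2,1,2,0,0,0,0],[2,2,2,1,0,0,0,0],[2,1,2,2,0,0,0,0]]

/-- A matrix of the table. -/
def gm38 : List (List ℕ) := [[0,0,0,0,1,2,2,1],[0,0,0,0,1,1,1,1],[0,0,0,0,1,2,1,2],[0,0,0,0,2,2,1,1],[2,2,2,1,0,0,0,0],[1,2,1,1,0,0,0,0],[1,2,2,2,0,0,0,0],[2,2,1,2,0,0,0,0]]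

/-- A matrix of the table. -/
def gm39 : List (List ℕ) := [[0,0,0,0,1,2,1,2],[0,0,0,0,1,1,2,2],[0,0,0,0,2,1,1,2],[0,0,0,0,1,1,1,1],[2,2,1,2,0,0,0,0],[1,2,2,2,0,0,0,0],[2,1,2,2,0,0,0,0],[1,1,1,2,0,0,0,0]]

/-- A matrix of the table. -/
def gm40 : List (List ℕ) := [[0,1,0,2,1,0,2,0],[2,0,1,0,0,1,0,1],[0,2,0,2,1,0,1,0],[1,0,1,0,0,2,0,1],[2,0,2,0,0,2,0,1],[0,2,0,1,1,0,2,0],[1,0,2,0,0,1,0,1],[0,2,0,2,2,0,2,0]]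

/-- A matrix of the table. -/
def gm41 : List (List ℕ) := [[0,1,0,1,2,0,1,0],[2,0,2,0,0,2,0,2],[0,1,0,2,2,0,2,0],[2,0,1,0,0,1,0,2],[1,0,1,0,0,2,0,2],[0,1,0,2,1,0,1,0],[2,0,1,0,0,2,0,1],[0,1,0,1,1,0,2,0]]

/-- A matrix of the table. -/
def gm42 : List (List ℕ) := [[0,1,0,2,2,0,1,0],[2,0,1,0,0,2,0,2],[0,2,0,2,2,0,2,0],[1,0,1,0,0,1,0,2],[1,0,1,0,0,2,0,1],[0,1,0,2,1,0,2,0],[2,0,1,0,0,1,0,1],[0,1,0,1,2,0,2,0]]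

/-- A matrix of the table. -/
def gm43 : List (List ℕ) := [[0,1,0,1,1,0,2,0],[2,0,2,0,0,1,0,1],[0,1,0,2,1,0,1,0],[2,0,1,0,0,2,0,1],[2,0,2,0,0,2,0,2],[0,2,0,1,1,0,1,0],[1,0,2,0,0,2,0,1],[0,2,0,2,1,0,2,0]]

/-- A matrix of the table. -/
def gm44 : List (List ℕ) := [[0,1,0,2,1,0,1,0],[2,0,1,0,0,1,0,2],[0,2,0,2,2,0,1,0],[1,0,1,0,0,1,0,1],[2,0,1,0,0,2,0,1],[0,2,0,2,1,0,2,0],[2,0,2,0,0,1,0,1],[0,1,0,2,2,0,2,0]]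

/-- A matrix of the table. -/
def gm45 : List (List ℕ) := [[0,1,0,1,2,0,2,0],[2,0,2,0,0,2,0,1],[0,1,0,2,1,0,2,0],[2,0,1,0,0,2,0,2],[1,0,2,0,0,2,0,2],[0,1,0,1,1,0,1,0],[1,0,1,0,0,2,0,1],[0,2,0,1,1,0,2,0]]

/-- A matrix of the table. -/
def gm46 : List (List ℕ) := [[0,1,0,2,2,0,2,0],[2,0,1,0,0,2,0,1],[0,2,0,2,1,0,2,0],[1,0,1,0,0,2,0,2],[1,0,2,0,0,2,0,1],[0,1,0,1,1,0,2,0],[1,0,1,0,0,1,0,1],[0,2,0,1,2,0,2,0]]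

/-- A matrix of the table. -/
def gm47 : List (List ℕ) := [[0,1,0,1,1,0,1,0],[2,0,2,0,0,1,0,2],[0,1,0,2,2,0,1,0],[2,0,1,0,0,1,0,1],[2,0,1,0,0,2,0,2],[0,2,0,2,1,0,1,0],[2,0,2,0,0,2,0,1],[0,1,0,2,1,0,2,0]]

/-- A matrix of the table. -/
def gm48 : List (List ℕ) := [[0,0,1,2,0,0,1,1],[0,0,1,1,0,0,1,2],[2,2,0,0,2,2,0,0],[1,2,0,0,2,1,0,0],[0,0,1,1,0,0,2,1],[0,0,1,2,0,0,2,2],[2,2,0,0,1,1,0,0],[2,1,0,0,2,1,0,0]]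

/-- A matrix of the table. -/
def gm49 : List (List ℕ) := [[0,0,1,2,0,0,2,2],[0,0,1,1,0,0,2,1],[2,2,0,0,1,1,0,0],[1,2,0,0,1,2,0,0],[0,0,2,2,0,0,2,1],[0,0,2,1,0,0,2,2],[1,1,0,0,1,1,0,0],[1,2,0,0,2,1,0,0]]

/-- A matrix of the table. -/
def gm50 : List (List ℕ) := [[0,0,1,1,0,0,2,2],[0,0,2,1,0,0,2,1],[2,1,0,0,1,1,0,0],[2,2,0,0,1,2,0,0],[0,0,2,2,0,0,2,2],[0,0,2,1,0,0,1,2],[1,1,0,0,1,2,0,0],[1,2,0,0,1,1,0,0]]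

/-- A matrix of the table. -/
def gm51 : List (List ℕ) := [[0,0,1,1,0,0,1,1],[0,0,2,1,0,0,1,2],[2,1,0,0,2,2,0,0],[2,2,0,0,2,1,0,0],[0,0,1,1,0,0,2,2],[0,0,1,2,0,0,1,2],[2,2,0,0,1,2,0,0],[2,1,0,0,1,1,0,0]]

/-- A matrix of the table. -/
def gm52 : List (List ℕ) := [[0,0,1,2,0,0,2,1],[0,0,1,1,0,0,1,1],[2,2,0,0,1,2,0,0],[1,2,0,0,2,2,0,0],[0,0,2,1,0,0,2,1],[0,0,1,1,0,0,2,2],[1,2,0,0,1,1,0,0],[2,2,0,0,2,1,0,0]]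

/-- A matrix of the table. -/
def gm53 : List (List ℕ) := [[0,0,1,2,0,0,1,2],[0,0,1,1,0,0,2,2],[2,2,0,0,2,1,0,0],[1,2,0,0,1,1,0,0],[0,0,1,2,0,0,2,1],[0,0,2,2,0,0,2,2],[2,1,0,0,1,1,0,0],[1,1,0,0,2,1,0,0]]

/-- A matrix of the table. -/
def gm54 : List (List ℕ) := [[0,0,1,1,0,0,1,2],[0,0,2,1,0,0,2,2],[2,1,0,0,2,1,0,0],[2,2,0,0,1,1,0,0],[0,0,1,2,0,0,2,2],[0,0,2,2,0,0,1,2],[2,1,0,0,1,2,0,0],[1,1,0,0,1,1,0,0]]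

/-- A matrix of the table. -/
def gm55 : List (List ℕ) := [[0,0,1,1,0,0,2,1],[0,0,2,1,0,0,1,1],[2,1,0,0,1,2,0,0],[2,2,0,0,2,2,0,0],[0,0,2,1,0,0,2,2],[0,0,1,1,0,0,1,2],[1,2,0,0,1,2,0,0],[2,2,0,0,1,1,0,0]]

/-- A matrix of the table. -/
def gm56 : List (List ℕ) := [[0,1,2,0,0,2,1,0],[2,0,0,2,1,0,0,2],[1,0,0,2,2,0,0,2],[0,1,1,0,0,1,1,0],[0,2,1,0,0,2,1,0],[1,0,0,2,1,0,0,1],[2,0,0,2,2,0,0,1],[0,1,1,0,0,2,2,0]]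

/-- A matrix of the table. -/
def gm57 : List (List ℕ) := [[0,1,1,0,0,1,2,0],[2,0,0,1,2,0,0,1],[2,0,0,2,1,0,0,1],[0,2,1,0,0,2,2,0],[0,1,2,0,0,2,2,0],[2,0,0,1,1,0,0,2],[1,0,0,1,1,0,0,1],[0,2,2,0,0,1,2,0]]

/-- A matrix of the table. -/
def gm58 : List (List ℕ) := [[0,1,1,0,0,2,1,0],[2,0,0,1,1,0,0,2],[2,0,0,2,2,0,0,2],[0,2,1,0,0,1,1,0],[0,2,1,0,0,2,2,0],[1,0,0,2,1,0,0,2],[2,0,0,2,1,0,0,1],[0,1,1,0,0,1,2,0]]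

/-- A matrix of the table. -/
def gm59 : List (List ℕ) := [[0,1,2,0,0,1,2,0],[2,0,0,2,2,0,0,1],[1,0,0,2,1,0,0,1],[0,1,1,0,0,2,2,0],[0,1,2,0,0,2,1,0],[2,0,0,1,1,0,0,1],[1,0,0,1,2,0,0,1],[0,2,2,0,0,2,2,0]]

/-- A matrix of the table. -/
def gm60 : List (List ℕ) := [[0,1,2,0,0,2,2,0],[2,0,0,2,1,0,0,1],[1,0,0,2,1,0,0,2],[0,1,1,0,0,2,1,0],[0,2,2,0,0,2,1,0],[1,0,0,1,1,0,0,1],[1,0,0,2,2,0,0,1],[0,2,1,0,0,2,2,0]]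

/-- A matrix of the table. -/
def gm61 : List (List ℕ) := [[0,1,1,0,0,1,1,0],[2,0,0,1,2,0,0,2],[2,0,0,2,2,0,0,1],[0,2,1,0,0,1,2,0],[0,1,1,0,0,2,2,0],[2,0,0,2,1,0,0,2],[2,0,0,1,1,0,0,1],[0,1,2,0,0,1,2,0]]

/-- A matrix of the table. -/
def gm62 : List (List ℕ) := [[0,1,1,0,0,2,2,0],[2,0,0,1,1,0,0,1],[2,0,0,2,1,0,0,2],[0,2,1,0,0,2,1,0],[0,2,2,0,0,2,2,0],[1,0,0,1,1,0,0,2],[1,0,0,2,1,0,0,1],[0,2,1,0,0,1,2,0]]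

/-- A matrix of the table. -/
def gm63 : List (List ℕ) := [[0,1,2,0,0,1,1,0],[2,0,0,2,2,0,0,2],[1,0,0,2,2,0,0,1],[0,1,1,0,0,1,2,0],[0,1,1,0,0,2,1,0],[2,0,0,2,1,0,0,1],[2,0,0,1,2,0,0,1],[0,1,2,0,0,2,2,0]]

/-- The matrices attached to the vectors. -/
def gmTable : List (List (List ℕ)) := [gm0,gm1,gm2,gm3,gm4,gm5,gm6,gm7,gm8,gm9,gm10,gm11,gm12,gm13,gm14,gm15,gm16,gm17,gm18,gm19,gm20,gm21,gm22,gm23,gm24,gm25,gm26,gm27,gm28,gm29,gm30,gm31,gm32,gm33,gm34,gm35,gm36,gm37,gm38,gm39,gm40,gm41,gm42,gm43,gm44,gm45,gm46,gm47,gm48,gm49,gm50,gm51,gm52,gm53,gm54,gm55,gm56,gm57,gm58,gm59,gm60,gm61,gm62,gm63]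

/-- The combinations of axis matrices attached to the vectors. -/
def comb : List (List (ℕ × ℕ)) := [
    [],
    [(0,1)],
    [(1,1)],
    [(2,1)],
    [(5,1)],
    [(6,1)],
    [(3,1)],
    [(4,1)],
    [(0,2),(2,2),(4,2),(6,2)],
    [(0,2),(2,1),(4,1),(6,1)],
    [(0,2),(2,2),(4,1),(6,1)],
    [(0,2),(2,1),(4,2),(6,2)],
    [(0,2),(2,1),(4,1),(6,2)],
    [(0,2),(2,2),(4,2),(6,1)],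
    [(0,2),(2,1),(4,2),(6,1)],
    [(0,2),(2,2),(4,1),(6,2)],
    [(1,2),(2,2),(3,2),(4,1)],
    [(1,2),(2,2),(3,1),(4,2)],
    [(1,2),(2,1),(3,1),(4,2)],
    [(1,2),(2,1),(3,2),(4,1)],
    [(1,2),(2,1),(3,2),(4,2)],
    [(1,2),(2,1),(3,1),(4,1)],
    [(1,2),(2,2),(3,1),(4,1)],
    [(1,2),(2,2),(3,2),(4,2)],
    [(0,2),(1,2),(3,1),(6,1)],
    [(0,2),(1,1),(3,2),(6,2)],
    [(0,2),(1,1),(3,1),(6,1)],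
    [(0,2),(1,2),(3,2),(6,2)],
    [(0,2),(1,1),(3,2),(6,1)],
    [(0,2),(1,2),(3,1),(6,2)],
    [(0,2),(1,2),(3,2),(6,1)],
    [(0,2),(1,1),(3,1),(6,2)],
    [(3,2),(4,2),(5,2),(6,1)],
    [(3,2),(4,2),(5,1),(6,2)],
    [(3,2),(4,1),(5,2),(6,2)],
    [(3,2),(4,1),(5,1),(6,1)],
    [(3,2),(4,2),(5,1),(6,1)],
    [(3,2),(4,2),(5,2),(6,2)],
    [(3,2),(4,1),(5,1),(6,2)],
    [(3,2),(4,1),(5,2),(6,1)],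
    [(0,2),(2,1),(3,2),(5,1)],
    [(0,2),(2,2),(3,1),(5,2)],
    [(0,2),(2,1),(3,1),(5,2)],
    [(0,2),(2,2),(3,2),(5,1)],
    [(0,2),(2,1),(3,2),(5,2)],
    [(0,2),(2,2),(3,1),(5,1)],
    [(0,2),(2,1),(3,1),(5,1)],
    [(0,2),(2,2),(3,2),(5,2)],
    [(1,2),(2,1),(5,2),(6,2)],
    [(1,2),(2,1),(5,1),(6,1)],
    [(1,2),(2,2),(5,1),(6,1)],
    [(1,2),(2,2),(5,2),(6,2)],
    [(1,2),(2,1),(5,1),(6,2)],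
    [(1,2),(2,1),(5,2),(6,1)],
    [(1,2),(2,2),(5,2),(6,1)],
    [(1,2),(2,2),(5,1),(6,2)],
    [(0,2),(1,1),(4,1),(5,2)],
    [(0,2),(1,2),(4,2),(5,1)],
    [(0,2),(1,2),(4,1),(5,2)],
    [(0,2),(1,1),(4,2),(5,1)],
    [(0,2),(1,1),(4,1),(5,1)],
    [(0,2),(1,2),(4,2),(5,2)],
    [(0,2),(1,2),(4,1),(5,1)],
    [(0,2),(1,1),(4,2),(5,2)]]

/-- The vectors of the seven axes. -/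
def axes : List ℕ := [1,2,3,6,7,4,5]

/-- The generators. -/
def gensG : List ℕ := [25,28,39,49,50,1,45]

/-- Each vector as an image under a generator of an earlier one. -/
def steps : List (ℕ × ℕ × ℕ) := [(5,28,25),(40,49,25),(43,50,25),(24,1,25),(59,39,28),(29,1,28),(10,45,39),(3,50,49),(31,45,50),(44,45,1),(34,39,5),(52,49,5),(55,50,5),(41,1,40),(42,1,43),(6,45,43),(53,45,24),(58,1,59),(22,45,59),(48,45,29),(56,50,10),(11,1,10),(46,45,3),(30,1,31),(19,49,34),(16,50,34),(15,45,34),(26,45,55),(4,45,41),(33,39,6),(18,39,53),(36,50,22),(2,50,48),(9,49,56),(57,1,56),(47,1,46),(62,45,19),(14,1,15),(27,1,26),(35,39,4),(54,50,4),(21,49,36),(51,49,2),(8,1,9),(20,45,57),(12,50,62),(63,1,62),(17,50,35),(37,45,8),(13,1,12),(38,25,63),(60,45,17),(23,50,37),(32,45,13),(61,1,60),(7,39,32)]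

end Cfsg.Agent.Lib.SchurMult.SpSix
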