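import Cfsg.Agent.Lib.SchurMult.Engine

/-! Certificates for the multiplier of the symplectic group of dimension six over two elements. -/

set_option autoImplicit false
set_option maxRecDepth 100000

namespace Cfsg.Agent.Lib.SchurMult.SpSix

/-- A row of the certificate. -/
def compTwo0 : List ℤ := [1,0,0,0,0,0,0,0,0,0,0,0,0,0,0,0,0,0,0,0,0,0,0,0,0,0,0,0,0,0,0,0,0,0,0,0,0,0,0,0,0,0,0,0,0]

/-- A row of the certificate. -/
def compTwo1 : List ℤ := [0,1,0,0,0,0,0,0,0,0,0,0,0,0,0,0,0,0,0,0,0,0,0,0,0,0,0,0,0,0,0,0,0,0,0,0,0,0,0,0,0,0,0,0,0]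

/-- A row of the certificate. -/
def compTwo2 : List ℤ := [0,0,0,1,0,0,0,0,0,0,0,0,0,0,0,0,0,0,0,0,0,0,0,0,0,0,0,0,0,0,0,0,0,0,0,0,0,0,0,0,0,0,0,0,0]

/-- A row of the certificate. -/
def compTwo3 : List ℤ := [0,0,0,0,0,0,1,0,0,0,0,0,0,0,0,0,0,0,0,0,0,0,0,0,0,0,0,0,0,0,0,0,0,0,0,0,0,0,0,0,0,0,0,0,0]

/-- A row of the certificate. -/
def compTwo4 : List ℤ := [0,0,0,0,0,0,0,0,0,1,0,0,0,0,0,0,0,0,0,0,0,0,0,0,0,0,0,0,0,0,0,0,0,0,0,0,0,0,0,0,0,0,0,0,0]

/-- A row of the certificate. -/
def compTwo5 : List ℤ := [0,0,0,0,0,0,0,0,0,0,0,0,1,0,0,0,0,0,0,0,0,0,0,0,0,0,0,0,0,0,0,0,0,0,0,0,0,0,0,0,0,0,0,0,0]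

/-- A row of the certificate. -/
def compTwo6 : List ℤ := [0,0,0,0,0,0,0,0,0,0,0,0,0,0,0,0,1,0,0,0,0,0,0,0,0,0,0,0,0,0,0,0,0,0,0,0,0,0,0,0,0,0,0,0,0]

/-- A row of the certificate. -/
def compTwo7 : List ℤ := [0,0,0,0,0,0,0,0,0,0,0,0,0,0,0,0,0,0,0,1,0,0,0,0,0,0,0,0,0,0,0,0,0,0,0,0,0,0,0,0,0,0,0,0,0]

/-- A row of the certificate. -/
def compTwo8 : List ℤ := [0,0,0,0,0,0,0,0,0,0,0,0,0,0,0,0,0,0,0,0,0,0,0,0,0,1,0,0,0,0,0,0,0,0,0,0,0,0,0,0,0,0,0,0,0]

/-- A row of the certificate. -/
def coordTwo0 : List ℤ := [1,0,0,0,0,0,0,0,0]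

/-- A row of the certificate. -/
def coordTwo1 : List ℤ := [0,1,0,0,0,0,0,0,0]

/-- A row of the certificate. -/
def coordTwo2 : List ℤ := [0,0,0,0,-2,0,0,2,0]

/-- A row of the certificate. -/
def coordTwo3 : List ℤ := [0,0,1,0,0,0,0,0,0]

/-- A row of the certificate. -/
def coordTwo4 : List ℤ := [0,0,0,0,0,-2,0,0,0]

/-- A row of the certificate. -/
def coordTwo5 : List ℤ := [0,0,0,0,0,0,-2,2,0]

/-- A row of the certificate. -/
def coordTwo6 : List ℤ := [0,0,0,1,0,0,0,0,0]

/-- A row of the certificate. -/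
def coordTwo7 : List ℤ := [0,0,0,0,0,0,0,0,-2]

/-- A row of the certificate. -/
def coordTwo8 : List ℤ := [0,0,0,0,0,0,0,-2,2]

/-- A row of the certificate. -/
def coordTwo9 : List ℤ := [0,0,0,0,1,0,0,0,0]

/-- A row of the certificate. -/
def coordTwo10 : List ℤ := [0,0,0,0,0,0,0,0,0]

/-- A row of the certificate. -/
def coordTwo11 : List ℤ := [0,0,0,0,0,0,0,0,0]

/-- A row of the certificate. -/
def coordTwo12 : List ℤ := [0,0,0,0,0,1,0,0,0]

/-- A row of the certificate. -/
def coordTwo13 : List ℤ := [0,0,0,0,0,0,0,0,0]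

/-- A row of the certificate. -/
def coordTwo14 : List ℤ := [0,0,0,0,0,0,1,-1,0]

/-- A row of the certificate. -/
def coordTwo15 : List ℤ := [0,0,0,0,0,0,0,0,0]

/-- A row of the certificate. -/
def coordTwo16 : List ℤ := [0,0,0,0,0,0,1,0,0]

/-- A row of the certificate. -/
def coordTwo17 : List ℤ := [0,0,0,0,0,0,0,1,0]

/-- A row of the certificate. -/
def coordTwo18 : List ℤ := [0,0,0,0,0,0,0,0,0]

/-- A row of the certificate. -/
def coordTwo19 : List ℤ := [0,0,0,0,0,0,0,1,0]

/-- A row of the certificate. -/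
def coordTwo20 : List ℤ := [0,0,0,0,0,0,0,0,0]

/-- A row of the certificate. -/
def coordTwo21 : List ℤ := [0,0,0,0,0,0,0,0,0]

/-- A row of the certificate. -/
def coordTwo22 : List ℤ := [0,0,0,0,0,0,0,0,0]

/-- A row of the certificate. -/
def coordTwo23 : List ℤ := [0,0,0,0,0,0,0,0,0]

/-- A row of the certificate. -/
def coordTwo24 : List ℤ := [0,0,0,0,0,0,0,0,0]

/-- A row of the certificate. -/
def coordTwo25 : List ℤ := [0,0,0,0,0,0,0,0,1]

/-- A row of the certificate. -/
def coordTwo26 : List ℤ := [0,0,0,0,0,0,0,0,0]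

/-- A row of the certificate. -/
def coordTwo27 : List ℤ := [0,0,0,0,0,0,0,0,0]

/-- A row of the certificate. -/
def coordTwo28 : List ℤ := [0,0,0,0,0,0,0,0,0]

/-- A row of the certificate. -/
def coordTwo29 : List ℤ := [0,0,0,0,0,0,0,0,0]

/-- A row of the certificate. -/
def coordTwo30 : List ℤ := [0,0,0,0,0,0,0,0,0]

/-- A row of the certificate. -/
def coordTwo31 : List ℤ := [0,0,0,0,0,0,0,0,0]

/-- A row of the certificate. -/
def coordTwo32 : List ℤ := [0,0,0,0,0,0,0,0,0]

/-- A row of the certificate. -/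
def coordTwo33 : List ℤ := [0,0,0,0,0,0,0,0,0]

/-- A row of the certificate. -/
def coordTwo34 : List ℤ := [0,0,0,0,0,0,0,0,0]

/-- A row of the certificate. -/
def coordTwo35 : List ℤ := [0,0,0,0,0,0,0,0,0]

/-- A row of the certificate. -/
def coordTwo36 : List ℤ := [0,0,0,0,0,0,0,0,0]

/-- A row of the certificate. -/
def coordTwo37 : List ℤ := [0,0,0,0,0,0,0,0,0]

/-- A row of the certificate. -/
def coordTwo38 : List ℤ := [0,0,0,0,0,0,0,0,0]

/-- A row of the certificate. -/
def coordTwo39 : List ℤ := [0,0,0,0,0,0,0,0,0]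

/-- A row of the certificate. -/
def coordTwo40 : List ℤ := [0,0,0,0,0,0,0,0,0]

/-- A row of the certificate. -/
def coordTwo41 : List ℤ := [0,0,0,0,0,0,0,0,0]

/-- A row of the certificate. -/
def coordTwo42 : List ℤ := [0,0,0,0,0,0,0,0,0]

/-- A row of the certificate. -/
def coordTwo43 : List ℤ := [0,0,0,0,0,0,0,0,0]

/-- A row of the certificate. -/
def coordTwo44 : List ℤ := [0,0,0,0,0,0,0,0,0]

/-- A row of the certificate. -/
def lamTwo0 : List ℤ := [0,0,0,0,0,0,0,0,0,0,0,0,0,0,0,0,0,0,0,0,0,0,0,0,0,0,0,0,0,0,0,0,0,0,0,0,0,0]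

/-- A row of the certificate. -/
def lamTwo1 : List ℤ := [0,0,0,0,0,0,0,0,0,0,0,0,0,0,0,0,0,0,0,0,0,0,0,0,0,0,0,0,0,0,0,0,0,0,0,0,0,0]

/-- A row of the certificate. -/
def lamTwo2 : List ℤ := [-1,0,0,-1,-1,-1,0,-1,0,1,0,0,0,1,0,1,0,0,0,0,0,-2,-1,0,1,0,0,0,0,1,1,1,0,0,0,1,0,1]

/-- A row of the certificate. -/
def lamTwo3 : List ℤ := [0,0,0,0,0,0,0,0,0,0,0,0,0,0,0,0,0,0,0,0,0,0,0,0,0,0,0,0,0,0,0,0,0,0,0,0,0,0]

/-- A row of the certificate. -/
def lamTwo4 : List ℤ := [0,-1,0,0,0,0,0,-1,0,0,0,0,0,1,0,0,0,0,0,0,0,-2,0,0,0,0,0,0,0,0,0,0,0,-1,0,1,0,0]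

/-- A row of the certificate. -/
def lamTwo5 : List ℤ := [0,0,0,-1,0,-2,0,-1,0,0,0,0,0,1,0,0,0,0,0,-2,0,-2,-2,-2,2,0,0,0,0,0,0,0,-2,0,0,1,2,0]

/-- A row of the certificate. -/
def lamTwo6 : List ℤ := [0,0,0,0,0,0,0,0,0,0,0,0,0,0,0,0,0,0,0,0,0,0,0,0,0,0,0,0,0,0,0,0,0,0,0,0,0,0]

/-- A row of the certificate. -/
def lamTwo7 : List ℤ := [0,0,0,0,0,0,0,0,-1,0,0,0,0,-1,0,0,0,0,0,0,0,0,0,0,0,0,0,0,0,0,0,0,0,0,0,0,0,0]

/-- A row of the certificate. -/
def lamTwo8 : List ℤ := [0,0,0,0,0,1,0,0,1,0,0,0,0,1,0,0,0,-1,0,0,0,0,0,0,0,0,0,0,0,0,-1,-1,0,0,0,0,0,0]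

/-- A row of the certificate. -/
def lamTwo9 : List ℤ := [0,0,0,0,0,0,0,0,0,0,0,0,0,0,0,0,0,0,0,0,0,0,0,0,0,0,0,0,0,0,0,0,0,0,0,0,0,0]

/-- A row of the certificate. -/
def lamTwo10 : List ℤ := [0,0,0,0,0,0,0,-1,0,0,0,0,0,1,0,0,0,0,0,0,0,-1,0,0,0,0,0,0,0,0,0,1,0,0,0,1,0,0]

/-- A row of the certificate. -/
def lamTwo11 : List ℤ := [0,0,0,0,0,0,0,0,0,0,0,0,0,0,0,0,0,0,0,0,0,0,1,0,0,0,0,0,0,0,0,0,0,0,0,0,0,0]

/-- A row of the certificate. -/
def lamTwo12 : List ℤ := [0,0,0,0,0,0,0,0,0,0,0,0,0,0,0,0,0,0,0,0,0,0,0,0,0,0,0,0,0,0,0,0,0,0,0,0,0,0]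

/-- A row of the certificate. -/
def lamTwo13 : List ℤ := [0,0,0,0,0,0,0,0,0,0,0,0,0,0,0,0,0,0,0,0,0,0,0,1,0,0,0,0,0,0,0,0,0,0,0,0,0,0]

/-- A row of the certificate. -/
def lamTwo14 : List ℤ := [0,0,0,0,0,1,0,0,0,0,0,0,0,0,0,0,0,0,0,1,0,0,1,1,-1,0,0,0,0,0,0,0,1,0,0,0,-1,0]

/-- A row of the certificate. -/
def lamTwo15 : List ℤ := [0,1,1,0,0,0,0,1,0,0,0,0,0,-1,0,0,0,0,0,0,0,2,0,0,0,0,0,0,0,0,0,0,0,1,0,-1,0,0]

/-- A row of the certificate. -/
def lamTwo16 : List ℤ := [0,0,0,0,0,0,0,0,0,0,0,0,0,0,0,0,0,0,0,0,0,0,0,0,0,0,0,0,0,0,0,0,0,0,0,0,0,0]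

/-- A row of the certificate. -/
def lamTwo17 : List ℤ := [0,0,0,0,0,-1,0,1,0,0,0,0,0,-1,0,0,0,0,0,0,0,1,0,0,0,0,0,0,0,0,0,0,0,0,0,-1,0,0]

/-- A row of the certificate. -/
def lamTwo18 : List ℤ := [0,0,0,0,0,0,0,1,0,0,0,0,0,-1,0,0,0,0,0,0,0,2,0,0,0,0,0,0,0,0,0,0,0,1,0,-1,0,0]

/-- A row of the certificate. -/
def lamTwo19 : List ℤ := [0,0,0,0,0,0,0,0,0,0,0,0,0,0,0,0,0,0,0,0,0,0,0,0,0,0,0,0,0,0,0,0,0,0,0,0,0,0]

/-- A row of the certificate. -/
def lamTwo20 : List ℤ := [0,0,0,0,0,0,1,0,0,0,0,0,0,0,0,0,0,0,0,0,0,0,0,0,0,0,0,0,0,0,0,0,0,0,0,0,0,0]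

/-- A row of the certificate. -/
def lamTwo21 : List ℤ := [0,0,0,-1,-1,0,0,-1,0,0,0,0,0,1,0,1,0,0,0,0,0,-2,0,0,0,0,0,0,0,0,0,0,0,0,0,1,0,2]

/-- A row of the certificate. -/
def lamTwo22 : List ℤ := [0,0,0,0,0,0,0,1,0,0,0,0,0,-1,0,0,0,0,0,0,0,2,0,0,0,0,0,0,0,0,0,0,0,0,0,-1,0,0]

/-- A row of the certificate. -/
def lamTwo23 : List ℤ := [0,0,0,0,0,0,0,-1,0,0,0,0,0,1,0,0,0,0,0,0,0,-1,0,0,0,0,0,0,0,0,0,0,0,0,0,1,0,0]

/-- A row of the certificate. -/
def lamTwo24 : List ℤ := [0,0,0,0,0,0,0,0,0,0,0,0,0,0,0,0,0,0,0,0,0,0,0,0,0,-1,0,0,0,0,0,0,0,0,0,0,0,0]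

/-- A row of the certificate. -/
def lamTwo25 : List ℤ := [0,0,0,0,0,0,0,0,0,0,0,0,0,0,0,0,0,0,0,0,0,0,0,0,0,0,0,0,0,0,0,0,0,0,0,0,0,0]

/-- A row of the certificate. -/
def lamTwo26 : List ℤ := [0,0,0,0,0,0,0,0,0,0,0,0,0,0,0,0,0,0,0,0,0,0,0,0,0,0,-1,0,0,0,0,0,0,0,0,0,0,0]

/-- A row of the certificate. -/
def lamTwo27 : List ℤ := [0,0,0,0,0,0,0,0,0,0,0,0,0,0,0,0,0,0,0,0,-1,0,0,0,0,0,0,0,0,0,0,0,0,0,1,0,1,0]

/-- A row of the certificate. -/
def lamTwo28 : List ℤ := [0,0,0,0,0,0,0,0,0,0,-1,0,0,0,0,0,0,0,0,0,0,0,0,0,0,0,0,0,0,0,0,0,0,0,0,0,0,0]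

/-- A row of the certificate. -/
def lamTwo29 : List ℤ := [0,0,0,0,0,0,0,0,0,0,0,0,-1,0,0,0,0,0,0,0,0,0,0,0,0,0,0,0,0,0,0,0,0,0,0,0,0,0]

/-- A row of the certificate. -/
def lamTwo30 : List ℤ := [0,0,0,0,0,0,0,0,0,0,0,0,0,0,0,0,0,0,0,0,0,0,0,0,0,0,0,-1,0,0,0,0,0,0,0,0,0,0]

/-- A row of the certificate. -/
def lamTwo31 : List ℤ := [0,0,0,1,1,0,0,1,0,0,0,0,0,-1,0,-1,0,0,0,0,0,2,0,0,0,0,0,0,0,0,0,0,0,0,0,-1,0,-1]

/-- A row of the certificate. -/
def lamTwo32 : List ℤ := [0,0,0,0,0,0,0,0,0,-1,0,0,0,0,0,0,0,0,0,0,0,0,0,0,0,0,0,0,0,0,0,0,0,0,0,0,0,0]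

/-- A row of the certificate. -/
def lamTwo33 : List ℤ := [0,0,0,0,0,0,0,0,0,0,0,-1,0,0,0,0,0,0,0,0,0,0,0,0,0,0,0,0,0,0,0,0,0,0,0,0,0,0]

/-- A row of the certificate. -/
def lamTwo34 : List ℤ := [0,0,0,0,0,0,0,0,0,0,0,0,0,0,0,0,-1,0,0,0,0,0,0,0,0,0,0,0,0,0,0,0,0,0,0,0,0,0]

/-- A row of the certificate. -/
def lamTwo35 : List ℤ := [0,0,0,0,0,0,0,0,0,0,0,0,0,0,-1,0,0,0,0,0,0,0,0,0,0,0,0,0,0,0,0,0,0,0,0,0,0,0]

/-- A row of the certificate. -/
def lamTwo36 : List ℤ := [0,0,0,0,0,0,0,0,0,0,0,0,0,1,0,0,0,0,0,0,0,0,0,0,0,0,0,0,0,0,0,0,0,0,0,0,0,0]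

/-- A row of the certificate. -/
def lamTwo37 : List ℤ := [0,0,0,0,0,0,0,0,0,0,0,0,0,0,0,0,0,0,0,0,0,0,0,0,0,0,0,0,-1,0,0,0,0,0,0,0,0,0]

/-- A row of the certificate. -/
def lamTwo38 : List ℤ := [0,0,0,0,0,0,0,0,0,0,0,0,0,0,0,0,0,0,0,0,0,0,0,0,-1,0,0,0,0,0,0,0,0,0,0,0,0,0]

/-- A row of the certificate. -/
def lamTwo39 : List ℤ := [0,0,0,0,0,0,0,0,0,0,0,0,0,0,0,0,0,0,0,0,0,0,0,0,0,0,0,0,0,-1,0,0,0,0,0,0,0,0]

/-- A row of the certificate. -/
def lamTwo40 : List ℤ := [0,0,0,0,0,0,0,0,0,0,0,0,0,0,0,0,0,0,0,0,0,0,0,0,0,0,0,0,0,0,0,0,0,0,0,0,1,0]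

/-- A row of the certificate. -/
def lamTwo41 : List ℤ := [0,0,0,0,0,0,0,0,0,0,0,0,0,0,0,0,0,0,0,-1,0,0,0,0,0,0,0,0,0,0,0,0,0,0,0,0,0,0]

/-- A row of the certificate. -/
def lamTwo42 : List ℤ := [0,0,0,0,0,0,0,0,0,0,0,0,0,0,0,0,0,0,0,0,-1,0,0,0,0,0,0,0,0,0,0,0,0,0,0,0,0,0]

/-- A row of the certificate. -/
def lamTwo43 : List ℤ := [0,0,0,0,0,0,0,0,0,0,0,0,0,0,0,0,0,0,0,0,0,0,0,0,0,0,0,0,0,0,0,0,0,0,0,0,0,0]

/-- A row of the certificate. -/
def lamTwo44 : List ℤ := [0,0,0,0,0,0,0,0,0,0,0,0,0,0,0,0,0,1,0,0,0,0,0,0,0,0,0,0,0,0,0,0,0,0,0,0,0,0]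

/-- Certificate data. -/
def dataTwo : Engine.Data where
  p := 2
  n := 9
  rhs := [
    [],
    [],
    [],
    [],
    [],
    [],
    [],
    [],
    [],
    [0,1,2,7,8],
    [0,2],
    [1,2],
    [0,3,4],
    [1,3],
    [2,3,5],
    [0,4],
    [1,4,5,7,8],
    [2,4,7,8],
    [3,4],
    [0,5,7,8],
    [1,5],
    [2,5],
    [3,5],
    [4,5],
    [0,6],
    [1,6,7],
    [2,6],
    [3,6],
    [4,6],
    [5,6],
    [0,7],
    [1,7],
    [2,7],
    [3,7],
    [4,7],
    [5,7],
    [6,7],
    [0,8],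
    [1,8],
    [2,8],
    [3,8],
    [4,8],
    [5,8],
    [6,8],
    [7,8]]
  ord := [2,2,2,2,2,2,2,2,2]
  eqs := [
    .cons [1,1] [0],
    .cons [3,3] [0],
    .cons [3,0] [0],
    .cons [3,3] [2],
    .cons [3,2] [2],
    .cons [3,2] [0],
    .cons [3,2] [1],
    .cons [5,5] [4],
    .cons [6,6] [1],
    .cons [6,2] [1],
    .cons [6,3] [0],
    .cons [6,3] [1],
    .cons [6,3] [2],
    .cons [6,4] [2],
    .cons [6,5] [1],
    .cons [7,7] [1],
    .cons [7,3] [0],
    .cons [7,4] [2],
    .cons [7,7] [6],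
    .cons [8,3] [0],
    .cons [8,3] [2],
    .fus 0 [3,4] [1,2] [3,4] [1,2,5],
    .fus 1 [7] [2] [1,7] [2],
    .fus 1 [7] [3] [1,7] [3],
    .fus 1 [8] [7] [8] [1,7],
    .fus 2 [6] [4] [6] [0,4],
    .fus 2 [6] [5] [6] [2,5],
    .fus 2 [7] [4] [7] [0,4],
    .fus 2 [8] [4] [8] [0,4],
    .fus 2 [8] [5] [8] [2,5],
    .fus 3 [0,4,5] [0,5] [2,4,5] [0,2,5,7,8],
    .fus 4 [2] [0] [5] [4],
    .fus 5 [1,3,4,5] [1,3,4] [2,3,4,5,8] [1,3,4],
    .fus 6 [4] [3] [5] [3,5],
    .fus 6 [6] [3] [8] [3,5],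
    .fus 7 [5] [3] [7] [6],
    .fus 7 [8] [3] [8] [6],
    .fus 8 [5] [2] [1,7] [7]]
  comp := [
    compTwo0,
    compTwo1,
    compTwo2,
    compTwo3,
    compTwo4,
    compTwo5,
    compTwo6,
    compTwo7,
    compTwo8]
  coord := [
    coordTwo0,
    coordTwo1,
    coordTwo2,
    coordTwo3,
    coordTwo4,
    coordTwo5,
    coordTwo6,
    coordTwo7,
    coordTwo8,
    coordTwo9,
    coordTwo10,
    coordTwo11,
    coordTwo12,
    coordTwo13,
    coordTwo14,
    coordTwo15,
    coordTwo16,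
    coordTwo17,
    coordTwo18,
    coordTwo19,
    coordTwo20,
    coordTwo21,
    coordTwo22,
    coordTwo23,
    coordTwo24,
    coordTwo25,
    coordTwo26,
    coordTwo27,
    coordTwo28,
    coordTwo29,
    coordTwo30,
    coordTwo31,
    coordTwo32,
    coordTwo33,
    coordTwo34,
    coordTwo35,
    coordTwo36,
    coordTwo37,
    coordTwo38,
    coordTwo39,
    coordTwo40,
    coordTwo41,
    coordTwo42,
    coordTwo43,
    coordTwo44]
  scale := 2
  back := [
    [1,0,0,0,0,0,0,0,0],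
    [0,1,0,0,0,0,0,0,0],
    [0,0,0,0,-2,0,0,2,0],
    [0,0,1,0,0,0,0,0,0],
    [0,0,0,0,0,-2,0,0,0],
    [0,0,0,0,0,0,-2,2,0],
    [0,0,0,1,0,0,0,0,0],
    [0,0,0,0,0,0,0,0,-2],
    [0,0,0,0,0,0,0,-2,2]]
  lam := [
    lamTwo0,
    lamTwo1,
    lamTwo2,
    lamTwo3,
    lamTwo4,
    lamTwo5,
    lamTwo6,
    lamTwo7,
    lamTwo8,
    lamTwo9,
    lamTwo10,
    lamTwo11,
    lamTwo12,
    lamTwo13,
    lamTwo14,
    lamTwo15,
    lamTwo16,
    lamTwo17,
    lamTwo18,
    lamTwo19,
    lamTwo20,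
    lamTwo21,
    lamTwo22,
    lamTwo23,
    lamTwo24,
    lamTwo25,
    lamTwo26,
    lamTwo27,
    lamTwo28,
    lamTwo29,
    lamTwo30,
    lamTwo31,
    lamTwo32,
    lamTwo33,
    lamTwo34,
    lamTwo35,
    lamTwo36,
    lamTwo37,
    lamTwo38,
    lamTwo39,
    lamTwo40,
    lamTwo41,
    lamTwo42,
    lamTwo43,
    lamTwo44]
  zeta := [0,0,0,0,0,0,0,0,0,0,0,0,0,0,0,0,0,0,0,0,0,0,0,0,0,0,0,0,0,0,0,0,0,0,0,0,0,0,0,0,0,0,0,1,0]
  mu := [0,0,-1,0,-1,1,0,1,-1,0,-1,0,0,0,-1,1,0,1,1,0,0,-1,1,-1,0,0,0,1,0,0,0,1,0,0,0,0,-1,0,0,0,1,0,0,1,0]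
  bound := 2
  lamz := [0,0,0,0,0,0,0,0,0,0,0,0,0,2,0,0,0,0,1,0,0,0,0,0,0,0,0,0,0,0,0,0,0,0,0,0,0,0]

/-- Generators of the Sylow subgroup, as products of transvections. -/
def gensTwo : List (List ℕ) := [
    [32,34],
    [16,17],
    [32,33],
    [4],
    [4,6],
    [4,5],
    [2],
    [2,3],
    [1]]

/-- Conjugating elements. -/
def conjTwo : List (List ℕ) := [
    [4],
    [16],
    [32],
    [34],
    [36],
    [48],
    [30,37,39,58],
    [3,50,52,17],
    [17,50,7,52]]

/-- The keys of the normal words. -/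
def keysTwo : List ℕ := [
    [34630287489,34630549633,34634481857,34634744001,34638680193,34638942337,34642874561,34643136705,34647588993,34647851137,34651783361,34652045505,34655981697,34656243841,34660176065,34660438209,34663841921,34664104065,34668560577,34668822721,34672234625,34672496769,34676953281,34677215425,34681143425,34681405569,34684813505,34685075649,34689536129,34689798273,34693206209,34693468353],
    [35167166593,35167428737,35171365057,35171627201,35175559297,35175821441,35179749569,35180011713,35184468097,35184730241,35188666561,35188928705,35192860801,35193122945,35197051073,35197313217,35200721025,35200983169,35205443777,35205705921,35209113729,35209375873,35213828289,35214090433,35218022529,35218284673,35221696705,35221958849,35226415233,35226677377,35230081217,35230343361],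
    [35705077889,35705340033,35709272257,35709534401,35713470593,35713732737,35717664961,35717927105,35722379393,35722641537,35726573761,35726835905,35730772097,35731034241,35734966465,35735228609,35738632321,35738894465,35743350977,35743613121,35747025025,35747287169,35751743681,35752005825,35755933825,35756195969,35759603905,35759866049,35764326529,35764588673,35767996609,35768258753],
    [36242481281,36242743425,36246679745,36246941889,36250873985,36251136129,36255064257,36255326401,36258734209,36258996353,36262932673,36263194817,36267126913,36267389057,36271317185,36271579329,36276035713,36276297857,36279709889,36279972033,36284428417,36284690561,36288094401,36288356545,36292288641,36292550785,36297011393,36297273537,36300681345,36300943489,36305395905,36305658049],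
    [36844880001,36845142145,36850122945,36850385089,36853796993,36854059137,36859039937,36859302081,36862181505,36862443649,36867424449,36867686593,36870049921,36870312065,36875292865,36875555009,36878434433,36878696577,36884201665,36884463809,36887351425,36887613569,36892070081,36892332225,36895735937,36895998081,36900454593,36900716737,36903604353,36903866497,36909371585,36909633729],
    [37381759105,37382021249,37387530433,37387792577,37390676097,37390938241,37395390657,37395652801,37399060609,37399322753,37403783361,37404045505,37406929025,37407191169,37412692161,37412954305,37415313537,37415575681,37420560577,37420822721,37424230529,37424492673,37429469377,37429731521,37432615041,37432877185,37437862081,37438124225,37440483457,37440745601,37445722305,37445984449],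
    [37919670401,37919932545,37922816193,37923078337,37928587393,37928849537,37931733185,37931995329,37936971905,37937234049,37940117697,37940379841,37944840321,37945102465,37947986113,37948248257,37953224833,37953486977,37956894913,37957157057,37962141825,37962403969,37964763329,37965025473,37970526337,37970788481,37973147841,37973409985,37978394753,37978656897,37982064833,37982326977],
    [38457073793,38457335937,38459699393,38459961537,38464942209,38465204353,38468608193,38468870337,38473326721,38473588865,38477000897,38477263041,38482243713,38482505857,38484861121,38485123265,38490628225,38490890369,38493778113,38494040257,38498496641,38498758785,38501638337,38501900481,38506881153,38507143297,38510031041,38510293185,38515798145,38516060289,38518939841,38519201985],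
    [38925254785,38925516929,38929449153,38929711297,38934696065,38934958209,38938890433,38939152577,38942556289,38942818433,38946750657,38947012801,38951997569,38952259713,38956191937,38956454081,38958809217,38959071361,38963527873,38963790017,38968250497,38968512641,38972969153,38973231297,38976110721,38976372865,38979780801,38980042945,38985552001,38985814145,38989222081,38989484225],
    [39529242753,39529504897,39533441217,39533703361,39538684033,39538946177,39542874305,39543136449,39546544257,39546806401,39550742721,39551004865,39555985537,39556247681,39560175809,39560437953,39562797185,39563059329,39567519937,39567782081,39572238465,39572500609,39576953025,39577215169,39580098689,39580360833,39583772865,39584035009,39589539969,39589802113,39593205953,39593468097],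
    [40000045185,40000307329,40004239553,40004501697,40007389313,40007651457,40011583681,40011845825,40017346689,40017608833,40021541057,40021803201,40024690817,40024952961,40028885185,40029147329,40033599617,40033861761,40038318273,40038580417,40040943745,40041205889,40045662401,40045924545,40050901121,40051163265,40054571201,40054833345,40058245249,40058507393,40061915329,40062177473],
    [40604557441,40604819585,40608755905,40609018049,40611901569,40612163713,40616091841,40616353985,40620810369,40621072513,40625008833,40625270977,40628154497,40628416641,40632344769,40632606913,40638111873,40638374017,40641786049,40642048193,40645456001,40645718145,40649121985,40649384129,40654364801,40654626945,40659087553,40659349697,40661708929,40661971073,40666423489,40666685633],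
    [41139847297,41140109441,41145090241,41145352385,41149812865,41150075009,41152958657,41153220801,41157148801,41157410945,41162391745,41162653889,41166065793,41166327937,41169211585,41169473729,41173401729,41173663873,41179168961,41179431105,41183367297,41183629441,41185988801,41186250945,41190703233,41190965377,41195421889,41195684033,41199620225,41199882369,41203290305,41203552449],
    [41609617537,41609879681,41615388865,41615651009,41619583105,41619845249,41622200513,41622462657,41626919041,41627181185,41631641793,41631903937,41635836033,41636098177,41639502017,41639764161,41643171969,41643434113,41648419009,41648681153,41653137537,41653399681,41656279233,41656541377,41660473473,41660735617,41665720513,41665982657,41669390465,41669652609,41672532161,41672794305],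
    [42214637697,42214899841,42217783489,42218045633,42222506113,42222768257,42227749057,42228011201,42231939201,42232201345,42235084993,42235347137,42238759041,42239021185,42244001985,42244264129,42248192129,42248454273,42251862209,42252124353,42256060545,42256322689,42260779201,42261041345,42265493633,42265755777,42268115137,42268377281,42272313473,42272575617,42278080705,42278342849],
    [42684932225,42685194369,42687557825,42687819969,42691752065,42692014209,42697515201,42697777345,42701185153,42701447297,42704859329,42705121473,42709053569,42709315713,42713768129,42714030273,42718486657,42718748801,42721636545,42721898689,42725306497,42725568641,42730545345,42730807489,42734739585,42735001729,42737889473,42738151617,42742608001,42742870145,42747846849,42748108993]].flatten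

/-- The codes of the normal words by increasing key. -/
def sortedTwo : List ℕ := [
    [0,256,258,2,260,4,6,262,384,128,386,130,132,388,134,390,64,320,450,194,324,68,198,454,448,192,322,66,196,452,70,326],
    [65,321,199,455,325,69,451,195,449,193,71,327,197,453,323,67,1,257,7,263,261,5,259,3,385,129,135,391,133,389,387,131],
    [288,32,34,290,292,36,38,294,160,416,162,418,164,420,166,422,352,96,226,482,356,100,230,486,224,480,98,354,228,484,102,358],
    [353,97,231,487,357,101,227,483,225,481,103,359,229,485,99,355,289,33,39,295,293,37,35,291,161,417,167,423,165,421,163,419],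
    [80,336,114,370,212,468,246,502,464,208,242,498,340,84,118,374,16,272,178,434,148,404,54,310,400,144,50,306,276,20,182,438],
    [81,337,247,503,213,469,115,371,465,209,119,375,341,85,243,499,17,273,55,311,149,405,179,435,401,145,183,439,277,21,51,307],
    [368,112,338,82,244,500,214,470,240,496,466,210,372,116,86,342,304,48,402,146,180,436,22,278,176,432,274,18,308,52,150,406],
    [369,113,215,471,245,501,339,83,241,497,87,343,373,117,467,211,305,49,23,279,181,437,403,147,177,433,151,407,309,53,275,19],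
    [8,264,266,10,300,44,46,302,392,136,394,138,172,428,174,430,72,328,458,202,364,108,238,494,456,200,330,74,236,492,110,366],
    [89,345,223,479,253,509,123,379,473,217,95,351,381,125,251,507,25,281,31,287,189,445,187,443,409,153,159,415,317,61,59,315],
    [296,40,42,298,268,12,14,270,168,424,170,426,140,396,142,398,360,104,234,490,332,76,206,462,232,488,106,362,204,460,78,334],
    [377,121,255,511,221,477,347,91,249,505,127,383,349,93,475,219,313,57,63,319,157,413,411,155,185,441,191,447,285,29,283,27],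
    [88,344,122,378,252,508,222,478,472,216,250,506,380,124,94,350,24,280,186,442,188,444,30,286,408,152,58,314,316,60,158,414],
    [73,329,239,495,365,109,459,203,457,201,111,367,237,493,331,75,9,265,47,303,301,45,267,11,393,137,175,431,173,429,395,139],
    [376,120,346,90,220,476,254,510,248,504,474,218,348,92,126,382,312,56,410,154,156,412,62,318,184,440,282,26,284,28,190,446],
    [361,105,207,463,333,77,235,491,233,489,79,335,205,461,107,363,297,41,15,271,269,13,43,299,169,425,143,399,141,397,171,427]].flatten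

/-- The relations as a table. -/
def tableTwo : List (List (List ℕ)) := [
    [[]],
    [[0,1,2,7,8],[]],
    [[0,2],[1,2],[]],
    [[0,3,4],[1,3],[2,3,5],[]],
    [[0,4],[1,4,5,7,8],[2,4,7,8],[3,4],[]],
    [[0,5,7,8],[1,5],[2,5],[3,5],[4,5],[]],
    [[0,6],[1,6,7],[2,6],[3,6],[4,6],[5,6],[]],
    [[0,7],[1,7],[2,7],[3,7],[4,7],[5,7],[6,7],[]],
    [[0,8],[1,8],[2,8],[3,8],[4,8],[5,8],[6,8],[7,8],[]]]

/-- A row of the certificate. -/
def compThree0 : List ℤ := [1,0,0,0,0,0,0,0,0,0]

/-- A row of the certificate. -/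
def compThree1 : List ℤ := [0,1,0,0,0,0,0,0,0,0]

/-- A row of the certificate. -/
def compThree2 : List ℤ := [0,0,0,0,1,0,0,0,0,0]

/-- A row of the certificate. -/
def compThree3 : List ℤ := [0,0,0,0,0,1,0,0,0,0]

/-- A row of the certificate. -/
def coordThree0 : List ℤ := [1,0,0,0]

/-- A row of the certificate. -/
def coordThree1 : List ℤ := [0,1,0,0]

/-- A row of the certificate. -/
def coordThree2 : List ℤ := [0,0,-3,3]

/-- A row of the certificate. -/
def coordThree3 : List ℤ := [0,0,0,-3]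

/-- A row of the certificate. -/
def coordThree4 : List ℤ := [0,0,1,0]

/-- A row of the certificate. -/
def coordThree5 : List ℤ := [0,0,0,1]

/-- A row of the certificate. -/
def coordThree6 : List ℤ := [0,0,0,0]

/-- A row of the certificate. -/
def coordThree7 : List ℤ := [0,0,0,0]

/-- A row of the certificate. -/
def coordThree8 : List ℤ := [0,0,0,0]

/-- A row of the certificate. -/
def coordThree9 : List ℤ := [0,0,0,0]

/-- A row of the certificate. -/
def lamThree0 : List ℤ := [0,0,0,0,0,0]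

/-- A row of the certificate. -/
def lamThree1 : List ℤ := [0,0,0,0,0,0]

/-- A row of the certificate. -/
def lamThree2 : List ℤ := [-1,3,3,3,1,-1]

/-- A row of the certificate. -/
def lamThree3 : List ℤ := [0,0,0,0,-1,1]

/-- A row of the certificate. -/
def lamThree4 : List ℤ := [0,0,0,0,0,0]

/-- A row of the certificate. -/
def lamThree5 : List ℤ := [0,0,0,0,0,0]

/-- A row of the certificate. -/
def lamThree6 : List ℤ := [0,0,0,-1,0,0]

/-- A row of the certificate. -/
def lamThree7 : List ℤ := [0,0,0,0,1,0]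

/-- A row of the certificate. -/
def lamThree8 : List ℤ := [0,-1,0,0,0,0]

/-- A row of the certificate. -/
def lamThree9 : List ℤ := [0,0,-1,0,0,0]

/-- Certificate data. -/
def dataThree : Engine.Data where
  p := 3
  n := 4
  rhs := [
    [],
    [],
    [],
    [],
    [0,1,2,3],
    [0,2,3],
    [1,2],
    [0,3],
    [1,3],
    [2,3]]
  ord := [3,3,3,3]
  eqs := [
    .cons [1,1,1] [0],
    .cons [2,1] [0],
    .cons [3,1] [0],
    .fus 0 [2] [1] [1,2] [1,1],
    .fus 1 [2,2,3,3] [2] [0,0,2,2,3,3] [0,2,3],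
    .fus 1 [0,2,2,3,3] [0,0,2,3,3] [2,2,3,3] [2]]
  comp := [
    compThree0,
    compThree1,
    compThree2,
    compThree3]
  coord := [
    coordThree0,
    coordThree1,
    coordThree2,
    coordThree3,
    coordThree4,
    coordThree5,
    coordThree6,
    coordThree7,
    coordThree8,
    coordThree9]
  scale := 3
  back := [
    [1,0,0,0],
    [0,1,0,0],
    [0,0,-3,3],
    [0,0,0,-3]]
  lam := [
    lamThree0,
    lamThree1,
    lamThree2,
    lamThree3,
    lamThree4,
    lamThree5,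
    lamThree6,
    lamThree7,
    lamThree8,
    lamThree9]
  zeta := [0,0,0,0,0,0,0,0,0,0]
  mu := [0,0,0,0,0,0,0,0,0,0]
  bound := 1
  lamz := [0,0,0,0,0,0]

/-- Generators of the Sylow subgroup, as products of transvections. -/
def gensThree : List (List ℕ) := [
    [7,29,46,56],
    [1,8],
    [1,2,8,18],
    [1,2,4,8,16,32]]

/-- Conjugating elements. -/
def conjThree : List (List ℕ) := [
    [1],
    [56,7]]

/-- The keys of the normal words. -/
def keysThree : List ℕ := [
    [1141414162,1145084162,1145608464,1611174162,1614844162,1615368464,1678284818,1681954818,1682479120,2165383780,2172723780,2173772384,2282823780,2290163780,2291212384,2299601444,2306941444,2307990048,4328932489,4330767489,4331029640,4563812489,4565647489,4565909640,4597367817,4599202817,4599464968,8657574162,8661244162,8661768464,9127334162,9131004162],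
    [9131528464,9194444818,9198114818,9198639120,9731344658,9735014658,9735538960,10201104658,10204774658,10205298960,10268215314,10271885314,10272409616,17197703780,17205043780,17206092384,17315143780,17322483780,17323532384,17331921444,17339261444,17340310048,19345244772,19352584772,19353633376,19462684772,19470024772,19471073376,19479462436,19486802436,19487851040,34393572489],
    [34395407489,34395669640,34628452489,34630287489,34630549640,34662007817,34663842817,34664104968,38688654473,38690489473,38690751624,38923534473,38925369473,38925631624,38957089801,38958924801,38959186952]].flatten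

/-- The codes of the normal words by increasing key. -/
def sortedThree : List ℕ := [
    [28,31,34,49,52,46,43,37,40,2,5,8,23,26,20,17,11,14,54,57,60,75,78,72,69,63,66,67,70,64,61,55],
    [58,73,76,79,25,19,22,10,13,16,4,7,1,41,44,38,35,29,32,47,50,53,80,74,77,65,68,71,59,62,56,12],
    [15,9,6,0,3,18,21,24,51,45,48,36,39,42,30,33,27]].flatten

end Cfsg.Agent.Lib.SchurMult.SpSix
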